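/-
helper4, project GAG (S4561, Gagola: every finite solvable group embeds in `H/Z(H)` for a group `H`
of central type).  Carrier definitions.
-/
import Mathlib

set_option autoImplicit false

universe u

open scoped commutatorElement IsMulCommutative

namespace Cfsg.Agent.Lib.Helper4.Gag

/-- cyclic group of order `p`, written multiplicatively -/
abbrev Cp (p : ℕ) : Type := Multiplicative (ZMod p)

/-- **Central-type criterion** (purely group theoretic): the centre is cyclic and every non-central
element `h` has a partner `g` with `⁅h, g⁆` central and non-trivial. -/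
def IsCT (H : Type*) [Group H] : Prop :=
  IsCyclic (Subgroup.center H) ∧
    ∀ h : H, h ∉ Subgroup.center H → ∃ g : H, ⁅h, g⁆ ∈ Subgroup.center H ∧ ⁅h, g⁆ ≠ 1

/-- `g ^ k` for `k : ZMod p`, as a homomorphism from `Cp p`, for an element with `g ^ p = 1`. -/
def powHom {G : Type*} [Group G] (p : ℕ) [NeZero p] (g : G) (hg : g ^ p = 1) : Cp p →* G where
  toFun x := g ^ (Multiplicative.toAdd x).val
  map_one' := by simp
  map_mul' x y := by
    rw [← pow_add]
    have h1 : (Multiplicative.toAdd (x * y)).val =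
        ((Multiplicative.toAdd x).val + (Multiplicative.toAdd y).val) % p := by
      rw [toAdd_mul, ZMod.val_add]
    rw [h1]
    conv_rhs => rw [← Nat.mod_add_div ((Multiplicative.toAdd x).val + (Multiplicative.toAdd y).val) p]
    rw [pow_add, pow_mul, hg, one_pow, mul_one]

section CPow

variable (p : ℕ) (H : Type u) [Group H]

/-- the product map on tuples of central elements -/
noncomputable def centerProd [Fintype (Cp p)] : (Cp p → Subgroup.center H) →* Subgroup.center H where
  toFun f := ∏ x : Cp p, f x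
  map_one' := by simp
  map_mul' f g := by simp [Finset.prod_mul_distrib]

/-- inclusion of central tuples -/
def centerIncl : (Cp p → Subgroup.center H) →* (Cp p → H) :=
  (Subgroup.center H).subtype.compLeft (Cp p)

/-- the central subgroup `Z₀ = {z ∈ Z(H)^p : ∏ z_i = 1}` of `H^p` -/
noncomputable def Z0 [Fintype (Cp p)] : Subgroup (Cp p → H) :=
  (centerProd p H).ker.map (centerIncl p H)

/-- the shift automorphism of `H^p`: `(shift q f) x = f (q⁻¹ * x)` (the convention of `RegularWreathProduct`) -/
def shift (q : Cp p) : (Cp p → H) ≃* (Cp p → H) where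
  toFun f x := f (q⁻¹ * x)
  invFun f x := f (q * x)
  left_inv f := by ext x; simp
  right_inv f := by ext x; simp
  map_mul' _ _ := rfl

@[simp] theorem shift_apply (q : Cp p) (f : Cp p → H) (x : Cp p) : shift p H q f x = f (q⁻¹ * x) := rfl

/-- the shift action as a homomorphism -/
def shiftHom : Cp p →* MulAut (Cp p → H) where
  toFun := shift p H
  map_one' := by ext f x; simp
  map_mul' q₁ q₂ := by ext f x; simp [mul_assoc]

theorem Z0_le_center [Fintype (Cp p)] : Z0 p H ≤ Subgroup.center (Cp p → H) := by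
  rintro f ⟨g, -, rfl⟩
  rw [Subgroup.mem_center_iff]
  intro k
  ext x
  exact Subgroup.mem_center_iff.mp (g x).2 (k x)

instance Z0_normal [Fintype (Cp p)] : (Z0 p H).Normal := by
  constructor
  intro n hn g
  have h := Subgroup.mem_center_iff.mp (Z0_le_center p H hn) g
  rw [h, mul_inv_cancel_right]
  exact hn

theorem shift_mem_Z0 [Fintype (Cp p)] (q : Cp p) {f : Cp p → H} (hf : f ∈ Z0 p H) :
    shift p H q f ∈ Z0 p H := by
  rw [Z0, Subgroup.mem_map] at hf ⊢
  obtain ⟨g, hg, rfl⟩ := hf
  refine ⟨fun x => g (q⁻¹ * x), ?_, rfl⟩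
  rw [MonoidHom.mem_ker] at hg ⊢
  change ∏ x : Cp p, g (q⁻¹ * x) = 1
  rw [← hg]
  exact Fintype.prod_equiv (Equiv.mulLeft q⁻¹) _ _ (fun _ => rfl)

theorem map_shift_Z0 [Fintype (Cp p)] (q : Cp p) :
    (Z0 p H).map (shift p H q).toMonoidHom = Z0 p H := by
  apply le_antisymm
  · rintro _ ⟨f, hf, rfl⟩
    exact shift_mem_Z0 p H q hf
  · intro f hf
    refine ⟨shift p H q⁻¹ f, shift_mem_Z0 p H q⁻¹ hf, ?_⟩
    ext x
    simp

/-- the central power `H ∘ ⋯ ∘ H` (`p` factors, centres identified) -/
abbrev CPow [Fintype (Cp p)] : Type u := (Cp p → H) ⧸ Z0 p H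

/-- the shift automorphism of the central power -/
noncomputable def shiftBar [Fintype (Cp p)] (q : Cp p) : CPow p H ≃* CPow p H :=
  QuotientGroup.congr (Z0 p H) (Z0 p H) (shift p H q) (map_shift_Z0 p H q)

@[simp] theorem shiftBar_mk [Fintype (Cp p)] (q : Cp p) (f : Cp p → H) :
    shiftBar p H q (QuotientGroup.mk f) = QuotientGroup.mk (shift p H q f) := rfl

/-- the shift action on the central power as a homomorphism -/
noncomputable def shiftBarHom [Fintype (Cp p)] : Cp p →* MulAut (CPow p H) where
  toFun := shiftBar p H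
  map_one' := by
    ext a
    induction a using QuotientGroup.induction_on with
    | H f => simp [shiftBar_mk, show shift p H 1 f = f from by ext x; simp]
  map_mul' q₁ q₂ := by
    ext a
    induction a using QuotientGroup.induction_on with
    | H f =>
      simp only [MulAut.mul_apply, shiftBar_mk]
      congr 1
      ext x
      simp [mul_assoc]

end CPow

section Top

/-- data for the top construction: an action `ψ` of `Cp p` on `A` and a central element `c` with
`c ^ p = 1` fixed by the action -/
structure TopData (p : ℕ) (A : Type u) [Group A] where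
  ψ : Cp p →* MulAut A
  c : A
  hc : c ∈ Subgroup.center A
  hcp : c ^ p = 1
  hψ : ∀ q, ψ q c = c

namespace TopData

variable {p : ℕ} [NeZero p] {A : Type u} [Group A] (D : TopData p A)

/-- the bimultiplicative pairing `κ(q, β) = c ^ (q * β)` -/
def κ (q β : Cp p) : A :=
  powHom p D.c D.hcp (Multiplicative.ofAdd (Multiplicative.toAdd q * Multiplicative.toAdd β))

theorem κ_mem_zpowers (q β : Cp p) : D.κ q β ∈ Subgroup.zpowers D.c := by
  unfold κ powHom
  exact Subgroup.pow_mem _ (Subgroup.mem_zpowers _) _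

theorem κ_mem_center (q β : Cp p) : D.κ q β ∈ Subgroup.center A := by
  unfold κ powHom
  exact Subgroup.pow_mem _ D.hc _

theorem κ_comm (q β : Cp p) (x : A) : D.κ q β * x = x * D.κ q β :=
  (Subgroup.mem_center_iff.mp (D.κ_mem_center q β) x).symm

theorem ψ_κ (r q β : Cp p) : D.ψ r (D.κ q β) = D.κ q β := by
  unfold κ powHom
  simp only [MonoidHom.coe_mk, OneHom.coe_mk, map_pow, D.hψ]

theorem κ_mul_left (q₁ q₂ β : Cp p) : D.κ (q₁ * q₂) β = D.κ q₁ β * D.κ q₂ β := by
  unfold κ
  rw [toAdd_mul, add_mul, ofAdd_add, map_mul]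

theorem κ_mul_right (q β₁ β₂ : Cp p) : D.κ q (β₁ * β₂) = D.κ q β₁ * D.κ q β₂ := by
  unfold κ
  rw [toAdd_mul, mul_add, ofAdd_add, map_mul]

theorem κ_one_left (β : Cp p) : D.κ 1 β = 1 := by
  unfold κ
  simp

theorem κ_one_right (q : Cp p) : D.κ q 1 = 1 := by
  unfold κ
  simp

/-- the twisted action on `A × Cp p` -/
def F (q : Cp p) (y : A × Cp p) : A × Cp p := (D.ψ q y.1 * D.κ q y.2, y.2)

theorem F_one (y : A × Cp p) : D.F 1 y = y := by
  unfold F
  simp [κ_one_left]

theorem F_comp (q₁ q₂ : Cp p) (y : A × Cp p) : D.F q₁ (D.F q₂ y) = D.F (q₁ * q₂) y := by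
  unfold F
  simp only [map_mul, ψ_κ, κ_mul_left, MulAut.mul_apply, mul_assoc]
  congr 2
  rw [D.κ_comm q₁ y.2]

theorem F_mul (q : Cp p) (y₁ y₂ : A × Cp p) : D.F q (y₁ * y₂) = D.F q y₁ * D.F q y₂ := by
  unfold F
  ext
  · simp only [Prod.fst_mul, Prod.snd_mul, map_mul, κ_mul_right, mul_assoc]
    congr 1
    rw [← mul_assoc, ← mul_assoc, D.κ_comm q y₁.2]
  · rfl

/-- the twisted action as a homomorphism into the automorphism group -/
def hom : Cp p →* MulAut (A × Cp p) where
  toFun q :=
    { toFun := D.F q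
      invFun := D.F q⁻¹
      left_inv := fun y => by rw [F_comp, inv_mul_cancel, F_one]
      right_inv := fun y => by rw [F_comp, mul_inv_cancel, F_one]
      map_mul' := D.F_mul q }
  map_one' := by
    ext y : 1
    exact D.F_one y
  map_mul' q₁ q₂ := by
    ext y : 1
    exact (D.F_comp q₁ q₂ y).symm

@[simp] theorem hom_apply (q : Cp p) (y : A × Cp p) : D.hom q y = D.F q y := rfl

/-- **the top group** `T = (A × ⟨b⟩) ⋊ ⟨a⟩`, `a` acting by `ψ` on `A` and `b^a = b c` -/
abbrev T : Type u := (A × Cp p) ⋊[D.hom] Cp p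

end TopData

end Top

end Cfsg.Agent.Lib.Helper4.Gag
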